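import Groth.Agent.Lib.GeomIrr18.Scheme
import Mathlib.RingTheory.FiniteType
import Mathlib.RingTheory.Spectrum.Prime.Topology
import Mathlib.FieldTheory.Separable
import Mathlib.LinearAlgebra.Lagrange
import Mathlib.FieldTheory.IsAlgClosed.Basic
import Mathlib.RingTheory.Adjoin.FG

/-!
# Separable elements of tensor products over an algebraically closed field
-/

set_option autoImplicit false
set_option linter.style.haveILetI false
set_option backward.isDefEq.respectTransparency false

universe u

open CategoryTheory CategoryTheory.Limits AlgebraicGeometry TensorProduct Polynomial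

namespace Groth.Agent.SepTensor20

variable {k : Type u} [Field k] [IsAlgClosed k]

omit [IsAlgClosed k] in
theorem isSeparable_of_isIdempotentElem {R : Type*} [CommRing R] [Algebra k R] {e : R} (he : IsIdempotentElem e) :
    IsSeparable k e := by
  have hs : ((X - C (0 : k)) * (X - C 1)).Separable :=
    Separable.mul separable_X_sub_C separable_X_sub_C (isCoprime_X_sub_C_of_isUnit_sub (by simp))
  refine hs.of_dvd (minpoly.dvd k e ?_)
  simp [mul_sub, he.eq]

/-- A separable element is a combination of idempotents. -/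
theorem mem_span_idempotent {R : Type*} [CommRing R] [Algebra k R] {a : R} (ha : IsSeparable k a) :
    a ∈ Submodule.span k {e : R | IsIdempotentElem e} := by
  classical
  rcases subsingleton_or_nontrivial R with hR | hR
  · rw [Subsingleton.elim a 0]; exact zero_mem _
  let p := minpoly k a
  let s := p.roots.toFinset
  have hnd : p.roots.Nodup := nodup_roots ha
  have hp : p.Monic := minpoly.monic ha.isIntegral
  have hcard : (Polynomial.roots p).card = p.natDegree := (IsAlgClosed.splits p).natDegree_eq_card_roots.symm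
  have hs : s.Nonempty := by
    obtain ⟨r, hr⟩ := IsAlgClosed.exists_root p (ne_of_gt (minpoly.degree_pos ha.isIntegral))
    exact ⟨r, Multiset.mem_toFinset.2 ((mem_roots hp.ne_zero).2 hr)⟩
  have hdvd : ∀ q : k[X], (∀ r ∈ s, q.eval r = 0) → aeval a q = 0 := fun q hq => by
    rcases eq_or_ne q 0 with rfl | hq0
    · rw [map_zero]
    have hle : p.roots ≤ q.roots := (Multiset.le_iff_subset hnd).2 fun r hr =>
      (mem_roots hq0).2 (hq r (Multiset.mem_toFinset.2 hr))
    obtain ⟨c, hc⟩ := (IsAlgClosed.splits p).dvd_of_roots_le_roots hp.ne_zero hle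
    rw [hc, map_mul, minpoly.aeval, zero_mul]
  let L := fun r => Lagrange.basis s id r
  have hid : ∀ r ∈ s, IsIdempotentElem (aeval a (L r)) := fun r hr => by
    show aeval a (L r) * aeval a (L r) = aeval a (L r)
    rw [← sub_eq_zero, ← map_mul, ← map_sub]
    refine hdvd _ fun r' hr' => ?_
    rcases eq_or_ne r r' with rfl | hne
    · have h : (L r).eval r = 1 := by simpa using Lagrange.eval_basis_self (v := id) (Set.injOn_id _) hr
      rw [eval_sub, eval_mul, h, one_mul, sub_self]
    · have h : (L r).eval r' = 0 := by simpa using Lagrange.eval_basis_of_ne (v := id) hne hr'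
      rw [eval_sub, eval_mul, h, zero_mul, sub_self]
  have hsum : a = ∑ r ∈ s, r • aeval a (L r) := by
    have h0 := hdvd (X - ∑ r ∈ s, C r * L r) fun r hr => by
      rw [eval_sub, eval_X, eval_finsetSum, Finset.sum_eq_single r]
      · have h : (L r).eval r = 1 := by simpa using Lagrange.eval_basis_self (v := id) (Set.injOn_id _) hr
        rw [eval_mul, h, eval_C, mul_one, sub_self]
      · intro r' _ hne
        have h : (L r').eval r = 0 := by simpa using Lagrange.eval_basis_of_ne (v := id) hne hr
        rw [eval_mul, h, mul_zero]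
      · exact fun h => absurd hr h
    rw [map_sub, aeval_X, map_sum, sub_eq_zero] at h0
    refine h0.trans (Finset.sum_congr rfl fun r _ => ?_)
    rw [map_mul, aeval_C, Algebra.smul_def]
  rw [hsum]
  exact Submodule.sum_mem _ fun r hr => Submodule.smul_mem _ _ (Submodule.subset_span (hid r hr))

section Atom

variable {R : Type u} [CommRing R]

/-- A minimal nonzero idempotent. -/
def IsAtomIdem (f : R) : Prop := IsIdempotentElem f ∧ f ≠ 0 ∧ ∀ g : R, IsIdempotentElem g → g * f = g → g = 0 ∨ g = f

/-- A noetherian ring has a finite partition of unity by minimal idempotents. -/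
theorem exists_atoms [IsNoetherianRing R] :
    ∃ s : List R, (∀ f ∈ s, IsAtomIdem f) ∧ s.sum = 1 := by
  suffices h : ∀ I : Ideal R, ∀ f : R, IsIdempotentElem f → I = Ideal.span {1 - f} →
      ∃ s : List R, (∀ g ∈ s, IsAtomIdem g) ∧ s.sum = f from h _ 1 IsIdempotentElem.one rfl
  intro I
  induction I using WellFoundedGT.induction with
  | _ I ih =>
    intro f hf hI
    by_cases h0 : f = 0
    · exact ⟨[], by simp, h0.symm⟩
    by_cases hat : IsAtomIdem f
    · exact ⟨[f], by simpa using hat, List.sum_singleton⟩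
    obtain ⟨g, hg, hgf, hg0, hgf'⟩ : ∃ g, IsIdempotentElem g ∧ g * f = g ∧ g ≠ 0 ∧ g ≠ f := by
      by_contra hcon
      exact hat ⟨hf, h0, fun g hg hgf => by
        by_contra h
        rw [not_or] at h
        exact hcon ⟨g, hg, hgf, h.1, h.2⟩⟩
    have hfg : IsIdempotentElem (f - g) := by
      show (f - g) * (f - g) = f - g
      linear_combination hf.eq + hg.eq - 2 * hgf
    have key : ∀ g : R, g * f = g → g ≠ f → I < Ideal.span {1 - g} := fun g hgf hne => by
      rw [hI]
      refine lt_of_le_not_ge (Ideal.span_le.2 (Set.singleton_subset_iff.2 (Ideal.mem_span_singleton.2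
        ⟨1 - f, by linear_combination -hgf⟩))) fun hle => hne ?_
      obtain ⟨c, hc⟩ := Ideal.mem_span_singleton.1 (hle (Ideal.mem_span_singleton_self _))
      linear_combination (-f) * hc - hgf + c * hf.eq
    obtain ⟨s₁, h₁, e₁⟩ := ih _ (key g hgf hgf') g hg rfl
    obtain ⟨s₂, h₂, e₂⟩ := ih _ (key (f - g) (by linear_combination hf.eq - hgf)
      (fun h => hg0 (by linear_combination -h))) (f - g) hfg rfl
    exact ⟨s₁ ++ s₂, fun x hx => (List.mem_append.1 hx).elim (h₁ x) (h₂ x),
      by rw [List.sum_append, e₁, e₂]; ring⟩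

/-- The corner of a minimal idempotent has connected spectrum. -/
theorem connectedSpace_corner {f : R} (hf : IsAtomIdem f) :
    ConnectedSpace (PrimeSpectrum (R ⧸ Ideal.span {1 - f})) := by
  obtain ⟨hf1, hf0, hat⟩ := hf
  haveI : Nontrivial (R ⧸ Ideal.span {1 - f}) := Ideal.Quotient.nontrivial_iff.2 fun h => hf0 (by
    obtain ⟨c, hc⟩ := Ideal.mem_span_singleton.1 ((Ideal.eq_top_iff_one _).1 h)
    linear_combination f * hc - c * hf1.eq)
  haveI : PreconnectedSpace (PrimeSpectrum (R ⧸ Ideal.span {1 - f})) := by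
    refine preconnectedSpace_iff_clopen.2 fun s hs => ?_
    obtain ⟨e, he, rfl⟩ := PrimeSpectrum.exists_idempotent_basicOpen_eq_of_isClopen hs
    obtain ⟨x, rfl⟩ := Ideal.Quotient.mk_surjective e
    have hx : (x * x - x) * f = 0 := by
      obtain ⟨c, hc⟩ := Ideal.mem_span_singleton.1 (Ideal.Quotient.eq.1
        (show Ideal.Quotient.mk (Ideal.span {1 - f}) (x * x) = Ideal.Quotient.mk _ x by rw [map_mul]; exact he.eq))
      linear_combination f * hc - c * hf1.eq
    have hmk : Ideal.Quotient.mk (Ideal.span {1 - f}) (x * f) = Ideal.Quotient.mk (Ideal.span {1 - f}) x := by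
      rw [Ideal.Quotient.eq, Ideal.mem_span_singleton]
      exact ⟨-x, by ring⟩
    rcases hat (x * f) (show x * f * (x * f) = x * f by linear_combination (x * x) * hf1.eq + hx)
      (by linear_combination x * hf1.eq) with h | h
    · left; rw [← hmk, h, map_zero]; simp
    · right
      rw [← hmk, h, show Ideal.Quotient.mk (Ideal.span {1 - f}) f = 1 from
        ((Ideal.Quotient.eq).2 (Ideal.mem_span_singleton.2 ⟨-1, by ring⟩)).trans (map_one _)]
      simp
  exact ⟨inferInstance⟩

end Atom

section Tensor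

variable {R R' : Type u} [CommRing R] [CommRing R'] [Algebra k R] [Algebra k R']

/-- Idempotents of a tensor product of connected rings are trivial. -/
theorem eq_zero_or_one [ConnectedSpace (PrimeSpectrum R)] [ConnectedSpace (PrimeSpectrum R')] {e : R ⊗[k] R'}
    (he : IsIdempotentElem e) : e = 0 ∨ e = 1 := by
  haveI : ConnectedSpace ↥(Spec (CommRingCat.of R)) := ‹ConnectedSpace (PrimeSpectrum R)›
  haveI : ConnectedSpace ↥(Spec (CommRingCat.of R')) := ‹ConnectedSpace (PrimeSpectrum R')›
  haveI := GeomIrr.geometricallyConnected_of_isSepClosed (Spec.map (CommRingCat.ofHom (algebraMap k R)))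
  haveI : UniversallyOpen (Spec.map (CommRingCat.ofHom (algebraMap k R))) := inferInstance
  haveI h : ConnectedSpace ↥(pullback (Spec.map (CommRingCat.ofHom (algebraMap k R)))
    (Spec.map (CommRingCat.ofHom (algebraMap k R')))) := inferInstance
  have hc : ConnectedSpace (PrimeSpectrum (R ⊗[k] R')) :=
    (pullbackSpecIso k R R').hom.homeomorph.connectedSpace_iff.1 h
  haveI := hc
  rcases isClopen_iff.1 (PrimeSpectrum.isClopen_iff.2 ⟨e, he, rfl⟩ :
      IsClopen (PrimeSpectrum.basicOpen e : Set (PrimeSpectrum (R ⊗[k] R')))) with h0 | h1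
  · refine Or.inl (he.eq_zero_of_isNilpotent ?_)
    exact (PrimeSpectrum.basicOpen_eq_bot_iff e).1 (TopologicalSpace.Opens.ext h0)
  · refine Or.inr ?_
    have hu : IsUnit e := by
      by_contra hu
      obtain ⟨m, hm, hem⟩ := exists_max_ideal_of_mem_nonunits hu
      exact (h1.ge (Set.mem_univ (⟨m, hm.isPrime⟩ : PrimeSpectrum (R ⊗[k] R')))) hem
    exact hu.mul_left_cancel (he.eq.trans (mul_one e).symm)

/-- Idempotents of tensor products of noetherian algebras are sums of pure idempotent tensors. -/
theorem mem_span_of_noetherian [IsNoetherianRing R] [IsNoetherianRing R'] {e : R ⊗[k] R'}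
    (he : IsIdempotentElem e) :
    e ∈ Submodule.span k {z : R ⊗[k] R' | ∃ f g, IsIdempotentElem f ∧ IsIdempotentElem g ∧ z = f ⊗ₜ[k] g} := by
  obtain ⟨s, hs, hs1⟩ := exists_atoms (R := R)
  obtain ⟨s', hs', hs1'⟩ := exists_atoms (R := R')
  have hone : (1 : R ⊗[k] R') = (s.map fun f => (s'.map fun g => f ⊗ₜ[k] g).sum).sum := by
    have e1 : ∀ f : R, f ⊗ₜ[k] s'.sum = (s'.map fun g => f ⊗ₜ[k] g).sum := fun f =>
      (map_list_sum (TensorProduct.mk k R R' f) s').trans rfl
    rw [← List.map_congr_left (fun f _ => e1 f), hs1', Algebra.TensorProduct.one_def]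
    have e2 := map_list_sum ((TensorProduct.mk k R R').flip (1 : R')) s
    rw [← hs1]; exact e2
  rw [← mul_one e, hone, ← List.sum_map_mul_left]
  refine list_sum_mem fun z hz => ?_
  obtain ⟨f, hf, rfl⟩ := List.mem_map.1 hz
  rw [← List.sum_map_mul_left]
  refine list_sum_mem fun z hz => ?_
  obtain ⟨g, hg, rfl⟩ := List.mem_map.1 hz
  haveI := connectedSpace_corner (hs f hf)
  haveI := connectedSpace_corner (hs' g hg)
  obtain ⟨hf1, -, -⟩ := hs f hf
  obtain ⟨hg1, -, -⟩ := hs' g hg
  let π : R →ₐ[k] R ⧸ Ideal.span {1 - f} := Ideal.Quotient.mkₐ k _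
  let π' : R' →ₐ[k] R' ⧸ Ideal.span {1 - g} := Ideal.Quotient.mkₐ k _
  let σ : (R ⧸ Ideal.span {1 - f}) →ₗ[k] R := (Ideal.span {1 - f}).liftQ (LinearMap.mulLeft R f) (fun x hx => by
    obtain ⟨c, rfl⟩ := Ideal.mem_span_singleton.1 hx
    show f * ((1 - f) * c) = 0
    linear_combination (-c) * hf1.eq) |>.restrictScalars k
  let σ' : (R' ⧸ Ideal.span {1 - g}) →ₗ[k] R' := (Ideal.span {1 - g}).liftQ (LinearMap.mulLeft R' g) (fun x hx => by
    obtain ⟨c, rfl⟩ := Ideal.mem_span_singleton.1 hx
    show g * ((1 - g) * c) = 0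
    linear_combination (-c) * hg1.eq) |>.restrictScalars k
  have key : ∀ z : R ⊗[k] R', TensorProduct.map σ σ' (Algebra.TensorProduct.map π π' z) = (f ⊗ₜ[k] g) * z := fun z => by
    induction z using TensorProduct.induction_on with
    | zero => rw [map_zero, map_zero, mul_zero]
    | tmul a b => rw [Algebra.TensorProduct.tmul_mul_tmul]; rfl
    | add x y hx hy => rw [map_add, map_add, hx, hy, mul_add]
  rw [mul_comm, ← key]
  rcases eq_zero_or_one (he.map (Algebra.TensorProduct.map π π')) with h | h
  · rw [h, map_zero]; exact zero_mem _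
  · rw [h, ← map_one (Algebra.TensorProduct.map π π'), key, mul_one]
    exact Submodule.subset_span ⟨f, g, hf1, hg1, rfl⟩

omit [IsAlgClosed k] in
/-- An element of a tensor product comes from finitely generated subalgebras. -/
theorem exists_fg (z : R ⊗[k] R') : ∃ (A : Subalgebra k R) (B : Subalgebra k R'), A.FG ∧ B.FG ∧
    z ∈ (Algebra.TensorProduct.map A.val B.val).range := by
  induction z using TensorProduct.induction_on with
  | zero => exact ⟨⊥, ⊥, Subalgebra.fg_bot, Subalgebra.fg_bot, zero_mem _⟩
  | tmul a b => exact ⟨Algebra.adjoin k {a}, Algebra.adjoin k {b}, ⟨{a}, by simp⟩, ⟨{b}, by simp⟩,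
      ⟨⟨a, Algebra.self_mem_adjoin_singleton k a⟩ ⊗ₜ ⟨b, Algebra.self_mem_adjoin_singleton k b⟩, rfl⟩⟩
  | add x y hx hy =>
    obtain ⟨A, B, hA, hB, hx⟩ := hx
    obtain ⟨A', B', hA', hB', hy⟩ := hy
    have hle : ∀ (A₁ A₂ : Subalgebra k R) (B₁ B₂ : Subalgebra k R'), A₁ ≤ A₂ → B₁ ≤ B₂ →
        (Algebra.TensorProduct.map A₁.val B₁.val).range ≤ (Algebra.TensorProduct.map A₂.val B₂.val).range := by
      rintro A₁ A₂ B₁ B₂ hA hB _ ⟨w, rfl⟩
      exact ⟨Algebra.TensorProduct.map (Subalgebra.inclusion hA) (Subalgebra.inclusion hB) w, by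
        induction w using TensorProduct.induction_on with
        | zero => simp
        | tmul a b => rfl
        | add u v hu hv => rw [map_add, map_add, map_add, hu, hv]⟩
    exact ⟨A ⊔ A', B ⊔ B', hA.sup hA', hB.sup hB', add_mem (hle _ _ _ _ le_sup_left le_sup_left hx)
      (hle _ _ _ _ le_sup_right le_sup_right hy)⟩

/-- Separable elements of a tensor product are spanned by tensors of idempotents. -/
theorem mem_span_tmul_idempotent {z : R ⊗[k] R'} (hz : IsSeparable k z) :
    z ∈ Submodule.span k {z : R ⊗[k] R' | ∃ f g, IsIdempotentElem f ∧ IsIdempotentElem g ∧ z = f ⊗ₜ[k] g} := by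
  refine Submodule.span_le.2 (fun e he => ?_) (mem_span_idempotent hz)
  obtain ⟨A, B, hA, hB, w, hw⟩ := exists_fg (k := k) e
  haveI : Algebra.FiniteType k A := (Subalgebra.fg_iff_finiteType A).1 hA
  haveI : Algebra.FiniteType k B := (Subalgebra.fg_iff_finiteType B).1 hB
  haveI : IsNoetherianRing A := Algebra.FiniteType.isNoetherianRing k A
  haveI : IsNoetherianRing B := Algebra.FiniteType.isNoetherianRing k B
  have hinj : Function.Injective (Algebra.TensorProduct.map A.val B.val) :=
    TensorProduct.map_injective_of_flat_flat A.val.toLinearMap B.val.toLinearMap Subtype.val_injective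
      Subtype.val_injective
  have hwi : IsIdempotentElem w := hinj (by rw [map_mul]; erw [hw]; exact he)
  have hw' := Submodule.apply_mem_span_image_of_mem_span (Algebra.TensorProduct.map A.val B.val).toLinearMap
    (mem_span_of_noetherian hwi)
  refine Submodule.span_mono ?_ (hw ▸ hw' : e ∈ _)
  rintro _ ⟨_, ⟨f, g, hf, hg, rfl⟩, rfl⟩
  exact ⟨f, g, hf.map A.val, hg.map B.val, rfl⟩

end Tensor

end Groth.Agent.SepTensor20
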